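import Cfsg.Agent.Lib.Involutions.Basic
import Cfsg.Agent.Lib.BGroup.Cyclic
import Mathlib

/-!
# Abelian Sylow 2-subgroups with a 2-complement

A finite group with an abelian Sylow 2-subgroup `S` and a core-free subgroup of odd order and
2-power index has `S` normal.  In a minimal counterexample `S` is normal in every involution
centraliser, so every coset of `N(S)` other than `N(S)` holds at most one involution, whence `S`
has a single involution and is cyclic.
-/

set_option autoImplicit false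
set_option linter.style.haveILetI false

namespace Cfsg.Agent.AbTwoHall

open Cfsg.Agent

variable {G : Type*} [Group G] [Finite G]

/-- A Sylow 2-subgroup and a subgroup of odd order and 2-power index factor the group. -/
theorem card_sylow_eq (S : Sylow 2 G) {H : Subgroup G} (hH : Odd (Nat.card H)) {b : ℕ}
    (hb : H.index = 2 ^ b) : Nat.card (S : Subgroup G) = H.index := by
  haveI := Fact.mk Nat.prime_two
  rw [hb, S.card_eq_multiplicity, ← H.card_mul_index, hb,
    Nat.factorization_mul Nat.card_pos.ne' (by positivity)]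
  simp [Nat.factorization_eq_zero_of_not_dvd (Nat.odd_iff.1 hH |> fun h => by omega : ¬ 2 ∣ Nat.card H),
    Nat.Prime.factorization_pow Nat.prime_two]

theorem isComplement (S : Sylow 2 G) {H : Subgroup G} (hH : Odd (Nat.card H)) {b : ℕ}
    (hb : H.index = 2 ^ b) : Subgroup.IsComplement' (S : Subgroup G) H := by
  refine Subgroup.isComplement'_of_coprime ?_ ?_
  · rw [card_sylow_eq S hH hb, mul_comm, H.card_mul_index]
  · rw [card_sylow_eq S hH hb, hb]
    exact Nat.Coprime.pow_left b (Nat.coprime_two_left.2 hH)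

theorem exists_factor (S : Sylow 2 G) {H : Subgroup G} (hH : Odd (Nat.card H)) {b : ℕ}
    (hb : H.index = 2 ^ b) (g : G) : ∃ s ∈ (S : Subgroup G), ∃ h ∈ H, g = s * h := by
  obtain ⟨⟨⟨s, hs⟩, ⟨h, hh⟩⟩, e⟩ := (isComplement S hH hb).2 g
  exact ⟨s, hs, h, hh, e.symm⟩

theorem eq_one_of_mem (S : Sylow 2 G) {H : Subgroup G} (hH : Odd (Nat.card H)) {b : ℕ}
    (hb : H.index = 2 ^ b) {g : G} (hS : g ∈ (S : Subgroup G)) (hg : g ∈ H) : g = 1 :=
  Subgroup.disjoint_def.1 (isComplement S hH hb).disjoint hS hg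

/-- An element of order two of `G` lying in a group with normal Sylow subgroup `S` is in `S`. -/
theorem mem_of_le_normalizer (S : Sylow 2 G) {g : G} {k : ℕ} (hk : g ^ 2 ^ k = 1)
    (hg : g ∈ Subgroup.normalizer ((S : Subgroup G) : Set G)) : g ∈ (S : Subgroup G) := by
  haveI := Fact.mk Nat.prime_two
  have hp : IsPGroup 2 (Subgroup.zpowers g) := by
    obtain ⟨j, -, hj⟩ := (Nat.dvd_prime_pow Nat.prime_two).1 (orderOf_dvd_of_pow_eq_one hk)
    exact IsPGroup.of_card (n := j) (by rw [Nat.card_zpowers, hj])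
  have hsup := IsPGroup.to_sup_of_normal_right' hp S.isPGroup' (Subgroup.zpowers_le.2 hg)
  have := S.is_maximal' hsup le_sup_right
  exact this ▸ Subgroup.mem_sup_left (Subgroup.mem_zpowers g)

theorem one_lt_pow_mem {H : Subgroup G} {s : G} (hs : s ∈ H) (hH : IsPGroup 2 H) (h1 : s ≠ 1) :
    ∃ n : ℕ, orderOf (s ^ n) = 2 := by
  obtain ⟨k, hk⟩ := hH ⟨s, hs⟩
  have hd : orderOf s ∣ 2 ^ k := orderOf_dvd_of_pow_eq_one (congrArg Subtype.val hk)
  obtain ⟨j, -, hj⟩ := (Nat.dvd_prime_pow Nat.prime_two).1 hd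
  rcases j with _ | j
  · exact absurd (orderOf_eq_one_iff.1 (by simpa using hj)) h1
  · exact ⟨2 ^ j, by
      rw [orderOf_pow, hj, Nat.gcd_eq_right (pow_dvd_pow 2 j.le_succ), pow_succ,
        Nat.mul_div_cancel_left _ (by positivity)]⟩

/-- An element of `N(S)` inverted by an outside involution is trivial, when `N(S)` contains the
centralisers of the involutions of `S`. -/
theorem eq_one_of_inverted (S : Sylow 2 G) (hS : IsMulCommutative (S : Subgroup G))
    {H : Subgroup G} (hH : Odd (Nat.card H)) {b : ℕ} (hb : H.index = 2 ^ b)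
    (hC : ∀ t ∈ (S : Subgroup G), orderOf t = 2 → ∀ g : G, g * t = t * g →
      g ∈ Subgroup.normalizer ((S : Subgroup G) : Set G))
    {u : G} (hu : orderOf u = 2) (huM : u ∉ Subgroup.normalizer ((S : Subgroup G) : Set G))
    {y : G} (hy : y ∈ Subgroup.normalizer ((S : Subgroup G) : Set G))
    (hinv : u * y * u⁻¹ = y⁻¹) : y = 1 := by
  by_contra hy1
  haveI := Fact.mk Nat.prime_two
  set M := Subgroup.normalizer ((S : Subgroup G) : Set G) with hM
  have hinvol : ∀ w ∈ M, orderOf w = 2 → w ∈ (S : Subgroup G) := fun w hw hwo =>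
    mem_of_le_normalizer S (k := 1) (by rw [pow_one, ← hwo, pow_orderOf_eq_one]) hw
  have hno : ∀ w ∈ M, orderOf w = 2 → u * w ≠ w * u := fun w hw hwo hc =>
    huM (hC w (hinvol w hw hwo) hwo u hc)
  -- the order is odd
  have hodd : Odd (orderOf y) := by
    rw [← Nat.not_even_iff_odd]
    rintro ⟨m, hm⟩
    have hpos := orderOf_pos y
    have hw : orderOf (y ^ m) = 2 := by
      rw [orderOf_pow, hm, ← two_mul, Nat.gcd_eq_right (dvd_mul_left m 2),
        Nat.mul_div_cancel _ (by omega)]
    refine hno _ (pow_mem hy m) hw ?_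
    have := Invol.conj_pow hinv m
    rw [Invol.inv_self hw] at this
    exact mul_inv_eq_iff_eq_mul.1 this
  -- `y` centralises no non-trivial element of `S`
  have hfpf : ∀ s ∈ (S : Subgroup G), y * s = s * y → s = 1 := by
    intro s hs hys
    by_contra hs1
    obtain ⟨n, hn⟩ := one_lt_pow_mem hs S.isPGroup' hs1
    set v := s ^ n
    have hvS : v ∈ (S : Subgroup G) := pow_mem hs n
    have hvM : v ∈ M := Subgroup.le_normalizer hvS
    have hvy : v * y * v⁻¹ = y := by
      rw [((Commute.pow_right (show Commute y s from hys) n).symm).eq, mul_inv_cancel_right]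
    rcases Nat.even_or_odd (orderOf (v * u)) with he | ho
    · have hw := Invol.half_order hn hu he (orderOf_pos _)
      obtain ⟨hwv, hwu⟩ := Invol.half_commute hn hu he
      exact hno _ (hC v hvS hn _ hwv.eq) hw hwu.eq.symm
    · obtain ⟨d, hd, hdu⟩ := Invol.conj_of_odd hn hu ho
      have hd' : d * y * d⁻¹ = y ∨ d * y * d⁻¹ = y⁻¹ := by
        clear hdu
        induction hd using Subgroup.closure_induction with
        | mem z hz =>
          rcases hz with rfl | rfl
          · exact Or.inl hvy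
          · exact Or.inr hinv
        | one => left; group
        | mul p q _ _ hp hq =>
          rw [show p * q * y * (p * q)⁻¹ = p * (q * y * q⁻¹) * p⁻¹ by group]
          rcases hq with hq | hq <;> rw [hq]
          · exact hp
          · rw [show p * y⁻¹ * p⁻¹ = (p * y * p⁻¹)⁻¹ by group]
            rcases hp with hp | hp <;> rw [hp]
            · exact Or.inr rfl
            · exact Or.inl (inv_inv y)
        | inv p _ hp =>
          rcases hp with hp | hp
          · left
            conv_lhs => rw [← hp]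
            group
          · right
            have hp' : p * y⁻¹ * p⁻¹ = y := by
              rw [show p * y⁻¹ * p⁻¹ = (p * y * p⁻¹)⁻¹ by group, hp, inv_inv]
            conv_lhs => rw [← hp']
            group
      have huy : u * y * u⁻¹ = y := by
        rw [← hdu]
        have e : d * v * d⁻¹ * y * (d * v * d⁻¹)⁻¹ = d * (v * (d⁻¹ * y * d) * v⁻¹) * d⁻¹ := by group
        rcases hd' with h | h
        · have h2 : d⁻¹ * y * d = y := by
            conv_lhs => rw [← h]
            group
          rw [e, h2, hvy, h]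
        · have h2 : d⁻¹ * y * d = y⁻¹ := by
            conv_lhs => rw [← inv_inv y, ← h]
            group
          rw [e, h2, show v * y⁻¹ * v⁻¹ = (v * y * v⁻¹)⁻¹ by group, hvy,
            show d * y⁻¹ * d⁻¹ = (d * y * d⁻¹)⁻¹ by group, h, inv_inv]
      have h2 : y * y = 1 := by
        rw [huy] at hinv
        nth_rw 1 [hinv]; exact inv_mul_cancel y
      exact hy1 (orderOf_eq_one_iff.1 (Nat.eq_one_of_dvd_coprimes (Nat.coprime_two_right.2 hodd)
        dvd_rfl (orderOf_dvd_of_pow_eq_one (by rw [pow_two, h2]))))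
  -- the conjugation deficit is a bijection of `S`
  let f : ↥(S : Subgroup G) → ↥(S : Subgroup G) := fun s =>
    ⟨y * s * y⁻¹ * (s : G)⁻¹, mul_mem ((Subgroup.mem_normalizer_iff.1 hy _).1 s.2) (inv_mem s.2)⟩
  have hfinj : Function.Injective f := by
    intro r s hrs
    have h : y * (r : G) * y⁻¹ * (r : G)⁻¹ = y * (s : G) * y⁻¹ * (s : G)⁻¹ := congrArg Subtype.val hrs
    have hr : y * (r : G) * y⁻¹ ∈ (S : Subgroup G) := (Subgroup.mem_normalizer_iff.1 hy _).1 r.2
    have hcomm := fun a (ha : a ∈ (S : Subgroup G)) c (hc : c ∈ (S : Subgroup G)) =>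
      (show a * c = c * a from congrArg Subtype.val (hS.is_comm.comm ⟨a, ha⟩ ⟨c, hc⟩))
    have hs' : y * (s : G) * y⁻¹ ∈ (S : Subgroup G) := (Subgroup.mem_normalizer_iff.1 hy _).1 s.2
    have e : y * ((s : G)⁻¹ * r) * y⁻¹ = (s : G)⁻¹ * r := by
      have e1 : y * (r : G) * y⁻¹ = y * (s : G) * y⁻¹ * ((s : G)⁻¹ * r) := by
        rw [← mul_assoc, ← h, inv_mul_cancel_right]
      calc y * ((s : G)⁻¹ * r) * y⁻¹ = (y * (s : G) * y⁻¹)⁻¹ * (y * r * y⁻¹) := by group
        _ = (s : G)⁻¹ * r := by rw [e1, inv_mul_cancel_left]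
    have := hfpf _ (mul_mem (inv_mem s.2) r.2) (mul_inv_eq_iff_eq_mul.1 e)
    exact Subtype.ext (inv_mul_eq_one.1 this).symm
  have hfbij := Finite.injective_iff_bijective.1 hfinj
  obtain ⟨s₀, hs₀, a, ha, hya⟩ := exists_factor S hH hb y
  obtain ⟨s, hs⟩ := hfbij.2 ⟨s₀⁻¹, inv_mem hs₀⟩
  have hs' : y * (s : G) * y⁻¹ * (s : G)⁻¹ = s₀⁻¹ := congrArg Subtype.val hs
  have hconj : ∀ r : (S : Subgroup G), (r : G)⁻¹ * y * r = (f r : G) * y := by
    intro r
    have hr : y * (r : G) * y⁻¹ ∈ (S : Subgroup G) := (Subgroup.mem_normalizer_iff.1 hy _).1 r.2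
    show _ = y * (r : G) * y⁻¹ * (r : G)⁻¹ * y
    rw [show y * (r : G) * y⁻¹ * (r : G)⁻¹ = (r : G)⁻¹ * (y * r * y⁻¹) from
      congrArg Subtype.val (hS.is_comm.comm ⟨_, hr⟩ ⟨_, inv_mem r.2⟩)]
    group
  have hfix : (s : G)⁻¹ * y * s = a := by
    rw [hconj s, hs, hya, inv_mul_cancel_left]
  obtain ⟨s', hs'S, h, hh, hus⟩ := exists_factor S hH hb (u * s)
  have hfix' : s'⁻¹ * y * s' = h * a⁻¹ * h⁻¹ := by
    have hs'e : s' = u * s * h⁻¹ := by rw [hus, mul_inv_cancel_right]
    have huy : u⁻¹ * y * u = y⁻¹ := by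
      have := hinv
      rwa [Invol.inv_self hu] at this ⊢
    rw [← hfix, hs'e, show (u * (s : G) * h⁻¹)⁻¹ * y * (u * s * h⁻¹) =
      h * ((s : G)⁻¹ * (u⁻¹ * y * u) * s) * h⁻¹ by group, huy]
    group
  have heq : f ⟨s', hs'S⟩ = f s := by
    refine Subtype.ext ?_
    have hm : ((f ⟨s', hs'S⟩ : (S : Subgroup G)) : G) * s₀ ∈ H := by
      have := hconj ⟨s', hs'S⟩
      rw [show ((⟨s', hs'S⟩ : (S : Subgroup G)) : G) = s' from rfl, hfix', hya, ← mul_assoc] at this
      have h2 : ((f ⟨s', hs'S⟩ : (S : Subgroup G)) : G) * s₀ = h * a⁻¹ * h⁻¹ * a⁻¹ := by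
        rw [this, mul_inv_cancel_right]
      rw [h2]
      exact mul_mem (mul_mem (mul_mem hh (inv_mem ha)) (inv_mem hh)) (inv_mem ha)
    rw [show (f s : G) = s₀⁻¹ from hs']
    exact eq_inv_of_mul_eq_one_left (eq_one_of_mem S hH hb (mul_mem (Subtype.coe_prop _) hs₀) hm)
  have hss : s' = (s : G) := congrArg Subtype.val (hfinj heq)
  have hmem : (s : G)⁻¹ * u * s ∈ H := by
    rw [mul_assoc, hus, hss, inv_mul_cancel_left]; exact hh
  have ho : orderOf ((s : G)⁻¹ * u * s) = 2 := by
    rw [show (s : G)⁻¹ * u * s = (s : G)⁻¹ * u * ((s : G)⁻¹)⁻¹ by group, Invol.order_conj, hu]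
  have hdvd := Subgroup.orderOf_dvd_natCard H hmem
  rw [ho] at hdvd
  exact (Nat.not_even_iff_odd.2 hH) (even_iff_two_dvd.2 hdvd)

/-- With the centraliser hypothesis, `S` is normal or has a single involution. -/
theorem normal_or_unique (S : Sylow 2 G) (hS : IsMulCommutative (S : Subgroup G))
    {H : Subgroup G} (hH : Odd (Nat.card H)) {b : ℕ} (hb : H.index = 2 ^ b)
    (hC : ∀ t ∈ (S : Subgroup G), orderOf t = 2 → ∀ g : G, g * t = t * g →
      g ∈ Subgroup.normalizer ((S : Subgroup G) : Set G)) :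
    (S : Subgroup G).Normal ∨
      ∀ t ∈ (S : Subgroup G), ∀ t' ∈ (S : Subgroup G), orderOf t = 2 → orderOf t' = 2 → t = t' := by
  haveI := Fact.mk Nat.prime_two
  by_cases hN : Subgroup.normalizer ((S : Subgroup G) : Set G) = ⊤
  · exact Or.inl (Subgroup.normalizer_eq_top_iff.1 hN)
  right
  set M := Subgroup.normalizer ((S : Subgroup G) : Set G) with hM
  -- conjugation moving an involution of `S` into `S` lies in `M`
  have hTI : ∀ (g t : G), t ∈ (S : Subgroup G) → orderOf t = 2 → g * t * g⁻¹ ∈ (S : Subgroup G) →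
      g ∈ M := by
    intro g t ht ho hg
    have ho' : orderOf (g * t * g⁻¹) = 2 := by rw [Invol.order_conj, ho]
    refine Subgroup.mem_normalizer_fintype fun r hr => ?_
    obtain ⟨k, hk⟩ := S.isPGroup' ⟨r, hr⟩
    refine mem_of_le_normalizer S (k := k) ?_ (hC _ hg ho' _ ?_)
    · rw [conj_pow, show r ^ 2 ^ k = 1 from congrArg Subtype.val hk, mul_one, mul_inv_cancel]
    · have e : r * t = t * r := congrArg Subtype.val (hS.is_comm.comm ⟨r, hr⟩ ⟨t, ht⟩)
      calc g * r * g⁻¹ * (g * t * g⁻¹) = g * (r * t) * g⁻¹ := by group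
        _ = g * t * g⁻¹ * (g * r * g⁻¹) := by rw [e]; group
  let Out := {u : G // orderOf u = 2 ∧ u ∉ M}
  let A := {c : G ⧸ M // c ≠ QuotientGroup.mk 1}
  let B := {t : G // t ∈ (S : Subgroup G) ∧ orderOf t = 2}
  let f : A × B → Out := fun p => ⟨p.1.1.out * p.2.1 * p.1.1.out⁻¹,
    by rw [Invol.order_conj]; exact p.2.2.2, fun hmem => p.1.2 (by
      have ho' : orderOf (p.1.1.out * p.2.1 * p.1.1.out⁻¹) = 2 := by
        rw [Invol.order_conj]; exact p.2.2.2
      have hin := mem_of_le_normalizer S (k := 1) (orderOf_dvd_iff_pow_eq_one.1 (by rw [pow_one, ho'])) hmem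
      have hg := hTI _ _ p.2.2.1 p.2.2.2 hin
      conv_lhs => rw [← p.1.1.out_eq']
      rw [QuotientGroup.eq, mul_one]
      exact inv_mem hg)⟩
  let g : Out → A := fun u => ⟨QuotientGroup.mk u.1, fun e => u.2.2 (by
    rw [QuotientGroup.eq, mul_one] at e
    exact inv_mem_iff.1 e)⟩
  have hg : Function.Injective g := by
    intro u v e
    have e' : (QuotientGroup.mk u.1 : G ⧸ M) = QuotientGroup.mk v.1 := congrArg Subtype.val e
    rw [QuotientGroup.eq, Invol.inv_self u.2.1] at e'
    have := eq_one_of_inverted S hS hH hb hC u.2.1 u.2.2 e' (Invol.conj_mul u.2.1 v.2.1)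
    exact Subtype.ext (by
      rw [← Invol.inv_self u.2.1]; exact (eq_inv_of_mul_eq_one_right this).symm)
  have hf : Function.Injective f := by
    rintro ⟨c, t⟩ ⟨c', t'⟩ e
    have e' : c.1.out * t.1 * c.1.out⁻¹ = c'.1.out * t'.1 * c'.1.out⁻¹ := congrArg Subtype.val e
    have h1 : c'.1.out⁻¹ * c.1.out * t.1 * (c'.1.out⁻¹ * c.1.out)⁻¹ = t'.1 := by
      calc c'.1.out⁻¹ * c.1.out * t.1 * (c'.1.out⁻¹ * c.1.out)⁻¹
          = c'.1.out⁻¹ * (c.1.out * t.1 * c.1.out⁻¹) * c'.1.out := by group
        _ = t'.1 := by rw [e']; group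
    have h2 := hTI _ _ t.2.1 t.2.2 (h1.symm ▸ t'.2.1)
    have h3 : c = c' := by
      refine Subtype.ext ?_
      rw [← c.1.out_eq', ← c'.1.out_eq']
      exact (QuotientGroup.eq.2 h2).symm
    subst h3
    refine Prod.ext rfl (Subtype.ext ?_)
    exact mul_left_cancel (mul_right_cancel e')
  have hle := Nat.card_le_card_of_injective _ (hg.comp hf)
  rw [Nat.card_prod] at hle
  haveI : Nonempty A := by
    obtain ⟨x, hx⟩ : ∃ x : G, x ∉ M := by
      by_contra hall
      push Not at hall
      exact hN ((Subgroup.eq_top_iff' M).2 hall)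
    exact ⟨⟨QuotientGroup.mk x, fun e => hx (by
      rw [QuotientGroup.eq, mul_one] at e; exact inv_mem_iff.1 e)⟩⟩
  have hB : Nat.card B ≤ 1 := Nat.le_of_mul_le_mul_left (by rw [mul_one]; exact hle) Nat.card_pos
  intro t ht t' ht' ho ho'
  haveI : Subsingleton B := (Finite.card_le_one_iff_subsingleton).1 hB
  exact congrArg Subtype.val (Subsingleton.elim (⟨t, ht, ho⟩ : B) ⟨t', ht', ho'⟩)

/-- An odd normal subgroup lies in any subgroup of odd order and 2-power index. -/
theorem normal_odd_le (S : Sylow 2 G) {H : Subgroup G} (hH : Odd (Nat.card H)) {b : ℕ}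
    (hb : H.index = 2 ^ b) {N : Subgroup G} [N.Normal] (hN : Odd (Nat.card N)) : N ≤ H := by
  intro n hn
  obtain ⟨s, hs, h, hh, rfl⟩ := exists_factor S hH hb n
  set q := QuotientGroup.mk' N
  have e : q s = (q h)⁻¹ := by
    rw [eq_inv_iff_mul_eq_one, ← map_mul]
    exact (QuotientGroup.eq_one_iff _).2 hn
  obtain ⟨k, hk⟩ := S.isPGroup' ⟨s, hs⟩
  have hk' : s ^ 2 ^ k = 1 := congrArg Subtype.val hk
  have h1 : q s = 1 := by
    rw [← orderOf_eq_one_iff]
    refine Nat.eq_one_of_dvd_coprimes (Nat.Coprime.pow_left k (Nat.coprime_two_left.2 hH))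
      (orderOf_dvd_of_pow_eq_one (by rw [← map_pow, hk', map_one])) ?_
    rw [e, orderOf_inv]
    exact (orderOf_map_dvd q h).trans (Subgroup.orderOf_dvd_natCard H hh)
  have h2 : s = 1 := by
    rw [← orderOf_eq_one_iff]
    exact Nat.eq_one_of_dvd_coprimes (Nat.Coprime.pow_left k (Nat.coprime_two_left.2 hN))
      (orderOf_dvd_of_pow_eq_one hk')
      (Subgroup.orderOf_dvd_natCard N ((QuotientGroup.eq_one_iff _).1 h1))
  rwa [h2, one_mul]

open scoped IsMulCommutative in
/-- An abelian Sylow 2-subgroup with one involution and a core-free 2-complement is normal. -/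
theorem normal_of_unique (S : Sylow 2 G) (hS : IsMulCommutative (S : Subgroup G))
    {H : Subgroup G} (hH : Odd (Nat.card H)) {b : ℕ} (hb : H.index = 2 ^ b)
    (hcore : H.normalCore = ⊥)
    (huniq : ∀ t ∈ (S : Subgroup G), ∀ t' ∈ (S : Subgroup G), orderOf t = 2 → orderOf t' = 2 → t = t') :
    (S : Subgroup G).Normal := by
  haveI := Fact.mk Nat.prime_two
  haveI := hS
  by_cases h2 : 2 ∣ Nat.card G
  swap
  · have : (S : Subgroup G) = ⊥ := by
      rw [Subgroup.eq_bot_iff_card, S.card_eq_multiplicity,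
        Nat.factorization_eq_zero_of_not_dvd h2, pow_zero]
    rw [this]; infer_instance
  have hcyc : IsCyclic (S : Subgroup G) := by
    refine BGroup.isCyclic_of_unique_prime fun r hr x y hx hy => ?_
    have hr2 : r = 2 := by
      obtain ⟨k, hk⟩ := IsPGroup.iff_orderOf.1 S.isPGroup' x
      exact (Nat.prime_dvd_prime_iff_eq hr Nat.prime_two).1
        (hr.dvd_of_dvd_pow (n := k) (by rw [← hk, hx]))
    subst hr2
    rw [show y = x from Subtype.ext (huniq _ y.2 _ x.2 (by rw [Subgroup.orderOf_coe, hy])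
      (by rw [Subgroup.orderOf_coe, hx]))]
    exact Subgroup.mem_zpowers x
  have hmin : (Nat.card G).minFac = 2 := Nat.minFac_eq_two_iff _ |>.2 h2
  have hcompl := IsCyclic.isComplement' hmin hcyc
  set N := (MonoidHom.transferSylow S (IsCyclic.normalizer_le_centralizer hmin hcyc)).ker with hN
  have hNodd : Odd (Nat.card N) := by
    rw [Nat.odd_iff, ← Nat.two_dvd_ne_zero]
    exact MonoidHom.not_dvd_card_ker_transferSylow S _
  have hNbot : N = ⊥ := by
    rw [eq_bot_iff, ← hcore]
    exact Subgroup.normal_le_normalCore.2 (normal_odd_le S hH hb hNodd)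
  have htop : (S : Subgroup G) = ⊤ := by
    rw [hNbot] at hcompl
    exact Subgroup.isComplement'_bot_left.1 hcompl
  rw [htop]; infer_instance

/-- An abelian Sylow 2-subgroup of a group with a core-free subgroup of odd order and 2-power index
is normal. -/
theorem sylow_normal {G : Type*} [Group G] [Finite G] (S : Sylow 2 G)
    (hS : IsMulCommutative (S : Subgroup G)) {H : Subgroup G} (hH : Odd (Nat.card H)) {b : ℕ}
    (hb : H.index = 2 ^ b) (hcore : H.normalCore = ⊥) : (S : Subgroup G).Normal := by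
  induction hc : Nat.card G using Nat.strong_induction_on generalizing G b with
  | _ n ih =>
  subst hc
  haveI := Fact.mk Nat.prime_two
  have hcomm : ∀ a ∈ (S : Subgroup G), ∀ c ∈ (S : Subgroup G), a * c = c * a := fun a ha c hc =>
    congrArg Subtype.val (hS.is_comm.comm ⟨a, ha⟩ ⟨c, hc⟩)
  by_cases hC : ∀ t ∈ (S : Subgroup G), orderOf t = 2 → ∀ g : G, g * t = t * g →
      g ∈ Subgroup.normalizer ((S : Subgroup G) : Set G)
  · rcases normal_or_unique S hS hH hb hC with h | h
    · exact h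
    · exact normal_of_unique S hS hH hb hcore h
  exfalso
  apply hC
  intro t ht ho g hg
  set C := Subgroup.centralizer ({t} : Set G) with hCdef
  have hSC : (S : Subgroup G) ≤ C := fun s hs =>
    Subgroup.mem_centralizer_singleton_iff.2 (hcomm s hs t ht)
  have hgC : g ∈ C := Subgroup.mem_centralizer_singleton_iff.2 hg
  by_cases hCtop : C = ⊤
  · -- the involution is central: pass to the quotient
    have hcent : ∀ x : G, x * t = t * x := fun x =>
      Subgroup.mem_centralizer_singleton_iff.1 (hCtop ▸ Subgroup.mem_top x : x ∈ C)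
    set T := Subgroup.zpowers t with hT
    haveI : T.Normal := ⟨fun a ha x => by
      obtain ⟨k, rfl⟩ := Subgroup.mem_zpowers_iff.1 ha
      have e : Commute x (t ^ k) := (show Commute x t from hcent x).zpow_right k
      rw [e.eq, mul_inv_cancel_right]
      exact ha⟩
    set q := QuotientGroup.mk' T with hq
    have hqs : Function.Surjective q := QuotientGroup.mk'_surjective T
    have hTcard : Nat.card T = 2 := by rw [hT, Nat.card_zpowers, ho]
    have hlt : Nat.card (G ⧸ T) < Nat.card G := by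
      rw [Subgroup.card_eq_card_quotient_mul_card_subgroup T, hTcard]
      have := Nat.card_pos (α := G ⧸ T)
      omega
    have hH' : Odd (Nat.card (H.map q)) := hH.of_dvd_nat (H.card_map_dvd q)
    have hb' : ∃ b', (H.map q).index = 2 ^ b' := by
      obtain ⟨b', -, hb'⟩ := (Nat.dvd_prime_pow Nat.prime_two).1 (hb ▸ H.index_map_dvd hqs)
      exact ⟨b', hb'⟩
    obtain ⟨b', hb'⟩ := hb'
    have hS' : IsMulCommutative ((S.mapSurjective hqs : Sylow 2 (G ⧸ T)) : Subgroup (G ⧸ T)) := by
      rw [Sylow.coe_mapSurjective]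
      refine ⟨⟨?_⟩⟩
      rintro ⟨_, a, ha, rfl⟩ ⟨_, c, hc, rfl⟩
      exact Subtype.ext (by
        show q a * q c = q c * q a
        rw [← map_mul, hcomm a ha c hc, map_mul])
    have hcore' : (H.map q).normalCore = ⊥ := by
      rw [eq_bot_iff]
      intro z hz
      obtain ⟨x, rfl⟩ := hqs z
      -- elements over the core are products of a power of `t` and an element of `H`
      have hdec : ∀ y : G, ∃ a ∈ T, ∃ h ∈ H, y * x * y⁻¹ = a * h := by
        intro y
        obtain ⟨h, hh, e⟩ := hz (q y)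
        have e' : q (y * x * y⁻¹) = q h := by rw [map_mul, map_mul, map_inv]; exact e.symm
        refine ⟨y * x * y⁻¹ * h⁻¹, ?_, h, hh, (inv_mul_cancel_right _ _).symm⟩
        rw [← QuotientGroup.eq_one_iff]
        show q (y * x * y⁻¹ * h⁻¹) = 1
        rw [map_mul, e', map_inv, mul_inv_cancel]
      have ht2 : ∀ a ∈ T, a * a = 1 := fun a ha => by
        rw [← pow_two, ← hTcard]
        exact congrArg Subtype.val (pow_card_eq_one' (x := (⟨a, ha⟩ : T)))
      have hsq : x ^ 2 ∈ H.normalCore := by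
        intro y
        obtain ⟨a, ha, h, hh, e⟩ := hdec y
        obtain ⟨k, hk⟩ := Subgroup.mem_zpowers_iff.1 ha
        have hah : Commute a h := hk ▸ ((show Commute h t from hcent h).symm.zpow_left k)
        rw [← conj_pow, e, hah.mul_pow, pow_two a, ht2 a ha, one_mul]
        exact pow_mem hh 2
      rw [hcore, Subgroup.mem_bot] at hsq
      obtain ⟨a, ha, h, hh, e⟩ := hdec 1
      rw [one_mul, inv_one, mul_one] at e
      obtain ⟨k, hk⟩ := Subgroup.mem_zpowers_iff.1 ha
      have hah : Commute a h := hk ▸ ((show Commute h t from hcent h).symm.zpow_left k)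
      have hh2 : h ^ 2 = 1 := by
        rw [e, hah.mul_pow, pow_two a, ht2 a ha, one_mul] at hsq; exact hsq
      have hh1 : h = 1 := orderOf_eq_one_iff.1 (Nat.eq_one_of_dvd_coprimes
        (Nat.coprime_two_left.2 hH) (orderOf_dvd_of_pow_eq_one hh2)
        (Subgroup.orderOf_dvd_natCard H hh))
      rw [hh1, mul_one] at e
      exact Subgroup.mem_bot.2 ((QuotientGroup.eq_one_iff x).2 (e ▸ ha))
    have hn := ih _ hlt (S.mapSurjective hqs) hS' hH' hb' hcore' rfl
    rw [Sylow.coe_mapSurjective] at hn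
    have hTS : T ≤ (S : Subgroup G) := Subgroup.zpowers_le.2 ht
    have : ((S : Subgroup G).map q).comap q = (S : Subgroup G) := by
      rw [Subgroup.comap_map_eq, hq, QuotientGroup.ker_mk', sup_eq_left.2 hTS]
    have hnorm : (S : Subgroup G).Normal := this ▸ hn.comap q
    exact Subgroup.normalizer_eq_top_iff.2 hnorm ▸ Subgroup.mem_top g
  · -- induction in the centralizer
    have hlt : Nat.card C < Nat.card G :=
      lt_of_le_of_ne (Subgroup.card_le_card_group C)
        fun e => hCtop (Subgroup.eq_top_of_card_eq C e)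
    have hK : Odd (Nat.card (H.subgroupOf C)) := by
      refine hH.of_dvd_nat ?_
      rw [← Subgroup.card_map_of_injective (K := H.subgroupOf C) (f := C.subtype) C.subtype_injective,
        Subgroup.subgroupOf_map_subtype]
      exact Subgroup.card_dvd_of_le inf_le_left
    have hcompl : Subgroup.IsComplement' ((S.subtype hSC : Sylow 2 C) : Subgroup C)
        (H.subgroupOf C) := by
      refine Subgroup.isComplement'_of_disjoint_and_mul_eq_univ ?_ ?_
      · rw [Subgroup.disjoint_def]
        intro z hz hz'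
        exact Subtype.ext (eq_one_of_mem S hH hb hz hz')
      · refine Set.eq_univ_of_forall fun z => ?_
        obtain ⟨s, hs, h, hh, e⟩ := exists_factor S hH hb (z : G)
        have hhC : h ∈ C := by
          rw [show h = s⁻¹ * (z : G) by rw [e, inv_mul_cancel_left]]
          exact mul_mem (inv_mem (hSC hs)) z.2
        exact Set.mem_mul.2 ⟨⟨s, hSC hs⟩, hs, ⟨h, hhC⟩, hh, Subtype.ext e.symm⟩
    obtain ⟨b', hb'⟩ : ∃ b', (H.subgroupOf C).index = 2 ^ b' := by
      rw [hcompl.index_eq_card]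
      exact (S.subtype hSC).isPGroup'.exists_card_eq
    have hS' : IsMulCommutative ((S.subtype hSC : Sylow 2 C) : Subgroup C) :=
      ⟨⟨fun a c => Subtype.ext (Subtype.ext (hcomm _ a.2 _ c.2))⟩⟩
    have hcore' : (H.subgroupOf C).normalCore = ⊥ := by
      rw [eq_bot_iff]
      intro z hz
      refine Subgroup.mem_bot.2 (Subtype.ext (Subgroup.mem_bot.1 (hcore ▸ ?_)))
      intro y
      obtain ⟨s, hs, h, hh, e⟩ := exists_factor S hH hb y⁻¹
      have h1 := hz ⟨s⁻¹, inv_mem (hSC hs)⟩
      rw [show y = h⁻¹ * s⁻¹ by rw [← mul_inv_rev, ← e, inv_inv],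
        show h⁻¹ * s⁻¹ * (z : G) * (h⁻¹ * s⁻¹)⁻¹ = h⁻¹ * (s⁻¹ * z * s⁻¹⁻¹) * h by group]
      exact mul_mem (mul_mem (inv_mem hh) h1) hh
    have hn := ih _ hlt (S.subtype hSC) hS' hK hb' hcore' rfl
    refine Subgroup.mem_normalizer_fintype fun r hr => ?_
    exact hn.conj_mem ⟨r, hSC hr⟩ hr ⟨g, hgC⟩

end Cfsg.Agent.AbTwoHall
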