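/-
Covering of the elements whose class size is prime to `p` by Sylow centralizers.
-/
import Mathlib
import Cfsg.Prelude.Def_Transfer

set_option autoImplicit false

namespace Cfsg.Agent.ClassCover

variable {G : Type*} [Group G] [Finite G] (p : ℕ) [Fact p.Prime]

/-- The elements whose class size is prime to `p`. -/
def regSet : Set G := {x | ¬ p ∣ (Subgroup.centralizer ({x} : Set G)).index}

theorem exists_sylow_of_mem {x : G} (hx : x ∈ regSet (G := G) p) :
    ∃ P : Sylow p G, x ∈ Subgroup.centralizer ((P : Subgroup G) : Set G) := by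
  classical
  let C := Subgroup.centralizer ({x} : Set G)
  obtain ⟨Q⟩ : Nonempty (Sylow p C) := inferInstance
  obtain ⟨P, hP⟩ := (Q.isPGroup'.map C.subtype).exists_le_sylow
  refine ⟨P, ?_⟩
  have hQC : (Q : Subgroup C).map C.subtype ≤ C := Subgroup.map_subtype_le _
  have hcard : Nat.card ((Q : Subgroup C).map C.subtype) = Nat.card (P : Subgroup G) := by
    rw [Subgroup.card_map_of_injective C.subtype_injective, Q.card_eq_multiplicity,
      P.card_eq_multiplicity, ← Subgroup.card_mul_index C,
      Nat.factorization_mul Nat.card_pos.ne' C.index_ne_zero_of_finite]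
    simp [C, Nat.factorization_eq_zero_of_not_dvd hx]
  have hPC : (P : Subgroup G) ≤ C := by
    rw [← Subgroup.eq_of_le_of_card_ge hP hcard.ge]; exact hQC
  intro y hy
  exact (Subgroup.mem_centralizer_iff.mp (hPC hy) x (Set.mem_singleton x)).symm

theorem ncard_regSet_le (P₀ : Sylow p G) :
    (regSet (G := G) p).ncard ≤
      (Subgroup.normalizer ((P₀ : Subgroup G) : Set G)).index *
        Nat.card (Subgroup.centralizer ((P₀ : Subgroup G) : Set G)) := by
  classical
  haveI := Fintype.ofFinite G
  haveI := Fintype.ofFinite (Sylow p G)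
  have hsub : regSet (G := G) p ⊆ ((Finset.univ : Finset (Sylow p G)).biUnion
      fun P => (Finset.univ : Finset G).filter
        fun x => x ∈ Subgroup.centralizer ((P : Subgroup G) : Set G)) := by
    intro x hx
    simpa using exists_sylow_of_mem p hx
  refine (Set.ncard_le_ncard hsub (Finset.finite_toSet _)).trans ?_
  rw [Set.ncard_coe_finset]
  refine Finset.card_biUnion_le.trans (le_of_eq ?_)
  have hc : ∀ P : Sylow p G, ((Finset.univ : Finset G).filter
      fun x => x ∈ Subgroup.centralizer ((P : Subgroup G) : Set G)).card =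
      Nat.card (Subgroup.centralizer ((P₀ : Subgroup G) : Set G)) := by
    intro P
    obtain ⟨g, hg⟩ := MulAction.exists_smul_eq G P₀ P
    rw [← Fintype.card_subtype, ← Nat.card_eq_fintype_card]
    refine (Nat.card_congr ((MulAut.conj g).toEquiv.subtypeEquiv fun x => ?_)).symm
    have hmem : ∀ y : G, y ∈ (P : Subgroup G) ↔ g⁻¹ * y * g ∈ (P₀ : Subgroup G) := by
      intro y
      rw [← hg, Sylow.coe_subgroup_smul, Subgroup.mem_pointwise_smul_iff_inv_smul_mem]
      simp [MulAut.smul_def, mul_assoc]
    simp only [Subgroup.mem_centralizer_iff, SetLike.mem_coe, MulEquiv.toEquiv_eq_coe,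
      EquivLike.coe_coe, MulAut.conj_apply]
    constructor
    · intro h y hy
      have := h _ ((hmem y).1 hy)
      calc y * (g * x * g⁻¹) = g * ((g⁻¹ * y * g) * x) * g⁻¹ := by group
        _ = g * (x * (g⁻¹ * y * g)) * g⁻¹ := by rw [this]
        _ = g * x * g⁻¹ * y := by group
    · intro h y hy
      have := h (g * y * g⁻¹) ((hmem _).2 (by simpa [mul_assoc] using hy))
      calc y * x = g⁻¹ * ((g * y * g⁻¹) * (g * x * g⁻¹)) * g := by group
        _ = g⁻¹ * ((g * x * g⁻¹) * (g * y * g⁻¹)) * g := by rw [this]
        _ = x * y := by group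
  rw [Finset.sum_congr rfl (fun P _ => hc P), Finset.sum_const, Finset.card_univ, smul_eq_mul,
    ← Nat.card_eq_fintype_card, P₀.card_eq_index_normalizer]
  rfl

/-- If `G` has no normal `p`-complement, at most half of its elements have class size prime
to `p`. -/
theorem two_mul_ncard_regSet_le (h : ¬ Cfsg.HasNormalPComplement p G) :
    2 * (regSet (G := G) p).ncard ≤ Nat.card G := by
  classical
  obtain ⟨P⟩ : Nonempty (Sylow p G) := inferInstance
  refine (Nat.mul_le_mul_left 2 (ncard_regSet_le p P)).trans ?_
  set C := Subgroup.centralizer ((P : Subgroup G) : Set G) with hC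
  set N := Subgroup.normalizer ((P : Subgroup G) : Set G) with hN
  have hCN : C ≤ N := by
    intro x hx
    rw [hN, Subgroup.mem_normalizer_iff]
    intro y
    constructor
    · intro hy
      have := Subgroup.mem_centralizer_iff.mp hx y hy
      simpa [← this, mul_assoc] using hy
    · intro hy
      have := Subgroup.mem_centralizer_iff.mp hx _ hy
      have h2 : x * y * x⁻¹ = y := by
        have h3 : x * y * x⁻¹ * x = x * (x * y * x⁻¹) := this
        have h4 : y = x * y * x⁻¹ := by
          have := mul_left_cancel (h3.symm.trans (by group : x * y * x⁻¹ * x = x * y)).symm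
          exact this
        exact h4.symm
      rwa [h2] at hy
  have hne : ¬ N ≤ C := fun hle =>
    h ⟨P, (MonoidHom.transferSylow P hle).ker, inferInstance,
      MonoidHom.ker_transferSylow_isComplement' P hle⟩
  have h2 : 2 ≤ C.relIndex N := by
    by_contra hlt
    have h0 : C.relIndex N ≠ 0 := Subgroup.index_ne_zero_of_finite (H := C.subgroupOf N)
    exact hne (Subgroup.relIndex_eq_one.mp (by omega))
  rw [← Subgroup.card_mul_index N, ← Subgroup.relIndex_bot_left, ← Subgroup.relIndex_bot_left,
    ← Subgroup.relIndex_mul_relIndex ⊥ C N bot_le hCN]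
  calc 2 * (N.index * (⊥ : Subgroup G).relIndex C)
      = (⊥ : Subgroup G).relIndex C * 2 * N.index := by ring
    _ ≤ _ := Nat.mul_le_mul_right _ (Nat.mul_le_mul_left _ h2)

end Cfsg.Agent.ClassCover
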